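import Groth.Agent.SurfRR.Surface
import Groth.Agent.SurfProj.Ample
import Groth.Agent.TanSmooth.Scheme
import Groth.Agent.CurveCoh.Integral

/-!
# Riemann–Roch and adjunction on smooth proper surfaces over any field
-/

set_option autoImplicit false
set_option linter.style.haveILetI false

universe u

open CategoryTheory CategoryTheory.Limits AlgebraicGeometry

noncomputable section

namespace Groth.Agent.SurfRR

variable (k : Type u) [Field k] {X : Scheme.{u}} [X.Over (Spec (CommRingCat.of k))]
  [IsProper (X ↘ Spec (CommRingCat.of k))] [Smooth (X ↘ Spec (CommRingCat.of k))]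
  (hdim : ∀ Z ∈ irreducibleComponents (X : Type u), topologicalKrullDim Z = 2)

include k hdim

theorem dim_le_of_components : topologicalKrullDim X ≤ (2 : ℕ) := by
  have h := SurfProj.RegSurf.mk' k (fun x => CurveDVR.isRegularLocalRing_stalk (X ↘ Spec (CommRingCat.of k)) x) hdim
  rw [VarDim.topologicalKrullDim_eq_iSup k]
  exact iSup_le fun x => by exact_mod_cast h.le_two x

theorem smoothRelDim_two : SmoothOfRelativeDimension 2 (X ↘ Spec (CommRingCat.of k)) := by
  have h := SurfProj.RegSurf.mk' k (fun x => CurveDVR.isRegularLocalRing_stalk (X ↘ Spec (CommRingCat.of k)) x) hdim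
  refine TanSmooth.smoothOfRelativeDimension_of_fibreDim _ 2 fun x => ?_
  rw [TanSmooth.fibreDimAt_of_field]
  obtain ⟨η, hxη, hmax, hd⟩ := VarDim.exists_localDim_eq k x
  obtain ⟨ξ, hξ, hξ2⟩ := h.two x
  rw [hd]
  have h1 := hmax ξ hξ
  have h2 := h.le_two η
  have h3 : VarDim.dimPt k X η = 2 := by omega
  rw [h3]

theorem exists_embedding : ∃ (n : ℕ) (i : X ⟶ CohB1.ProjSpace n k), IsClosedImmersion i ∧
    i ≫ CohB1.ProjSpace.toSpec n k = X ↘ Spec (CommRingCat.of k) :=
  SurfProj.exists_closedImmersion (fun x => CurveDVR.isRegularLocalRing_stalk (X ↘ Spec (CommRingCat.of k)) x) hdim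

end Groth.Agent.SurfRR
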