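import Groth.Agent.NefPos.ListInt
import Groth.Agent.DualAbs.SmoothDual
import Groth.Agent.DualAbs.Closed
import Groth.Agent.S15517
import Groth.Agent.ExtHom.Compare
import Groth.Agent.ProjForm.Unit
import Groth.Agent.PicLaw.Basic
import Groth.Agent.CycLib.ChowOp.DetFilt
import Groth.Agent.CanonTriv.Basic
import Groth.Agent.GenAt.Basic
import Groth.Agent.Snapper.BaseChange

/-!
# Riemann–Roch on smooth projective surfaces

`pr k A B = χ(A ⊗ B) - χ A - χ B + χ O` is the intersection pairing of invertible modules; Serre duality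
gives `χ(M ⊗ W) = χ L` for `M` inverse to `L`, hence `2 χ L = (L·L) - (L·W) + 2 χ O`.
-/

set_option autoImplicit false
set_option linter.style.haveILetI false

universe u

open CategoryTheory CategoryTheory.Limits AlgebraicGeometry

noncomputable section

namespace Groth.Agent.SurfRR

open NefPos Snapper IntProd70 ProjTwist

variable (k : Type u) [Field k] {X : Scheme.{u}} [X.Over (Spec (CommRingCat.of k))]
  [IsProper (X ↘ Spec (CommRingCat.of k))]

/-- The intersection pairing on a surface. -/
def pr (A B : X.Modules) : ℤ := iC k [A, B] (Coh.structureModule X)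

theorem isCoh_structure (k : Type u) [Field k] [X.Over (Spec (CommRingCat.of k))]
    [IsProper (X ↘ Spec (CommRingCat.of k))] : Coh.IsCoh (Coh.structureModule X) :=
  haveI := EulerChar.isLocallyNoetherian k (X := X)
  HomShEval.Reflexive.isCoh_structureModule X

theorem pr_eq_intNum (hd : topologicalKrullDim X ≤ (2 : ℕ)) {A B : X.Modules} (hA : PicF.IsInvertible A)
    (hB : PicF.IsInvertible B) :
    FGA.intNum k X 2 ![A, B] (Coh.structureModule X) = pr k A B := by
  have hM : ∀ i, PicF.IsInvertible (![A, B] i) := fun i => by fin_cases i <;> assumption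
  have h : intC k ![A, B] (Coh.structureModule X) = iC k (List.ofFn ![A, B]) (Coh.structureModule X) :=
    iC_ofFn k hM (isCoh_structure k)
  rw [Snapper.intNum_eq k hd, pr]
  simpa [intC, List.ofFn_succ] using h

theorem pr_eq (A B : X.Modules) :
    pr k A B = Curv2.euler k X (CohB1.tensorMod B A) - Curv2.euler k X A - Curv2.euler k X B +
      Curv2.euler k X (Coh.structureModule X) := by
  rw [pr, iC_cons, iC_cons, iC_cons, iC_nil, iC_nil, iC_nil, iC_nil,
    EulerChar.euler_iso k (tensCongr (Iso.refl B) (ProjTwist.tensOne A)),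
    EulerChar.euler_iso k (ProjTwist.tensOne A), EulerChar.euler_iso k (ProjTwist.tensOne B)]
  ring

theorem pr_congr {A A' : X.Modules} (e : A ≅ A') (B : X.Modules) : pr k A B = pr k A' B :=
  iC_congr k e _ _

theorem pr_comm (A B : X.Modules) : pr k A B = pr k B A :=
  iC_perm k (List.Perm.swap B A []) _

theorem pr_one (B : X.Modules) : pr k (Coh.structureModule X) B = 0 := by
  rw [pr_eq, EulerChar.euler_iso k (ProjTwist.tensOne B)]
  ring

theorem pr_mul (hd : topologicalKrullDim X ≤ (2 : ℕ)) {A A' B : X.Modules} (hA : PicF.IsInvertible A)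
    (hA' : PicF.IsInvertible A') (hB : PicF.IsInvertible B) :
    pr k (CohB1.tensorMod A A') B = pr k A B + pr k A' B :=
  iC_mul k (l := [B]) (fun C hC => by rw [List.mem_singleton.1 hC]; exact hB) hA hA' (isCoh_structure k)
    (((Topology.IsInducing.subtypeVal).topologicalKrullDim_le).trans hd)

theorem pr_inv (hd : topologicalKrullDim X ≤ (2 : ℕ)) {L M B : X.Modules} (hL : PicF.IsInvertible L)
    (hM : PicF.IsInvertible M) (hB : PicF.IsInvertible B)
    (e : CohB1.tensorMod L M ≅ Coh.structureModule X) : pr k M B = -pr k L B := by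
  have := pr_mul k hd hL hM hB
  rw [pr_congr k e, pr_one] at this
  linarith

omit [IsProper (X ↘ Spec (CommRingCat.of k))] in
/-- An isomorphism of modules gives a `k`-linear isomorphism on cohomology. -/
def hhEquiv {A B : X.Modules} (e : A ≅ B) (i : ℕ) : Coh.HH X A i ≃ₗ[k] Coh.HH X B i :=
  haveI h : ∀ {M N : X.Modules} (e : M ≅ N) (x : Coh.HH X M i),
      CurveCoh.mapL k e.inv i (CurveCoh.mapL k e.hom i x) = x := fun {M N} e x => by
    show Sheaf.H.map _ i (Sheaf.H.map _ i x) = x
    rw [← Sheaf.H.map_comp_apply, ← Functor.map_comp, e.hom_inv_id, CategoryTheory.Functor.map_id,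
      Sheaf.H.map_id_apply]
  LinearEquiv.ofBijective (CurveCoh.mapL k e.hom i)
    ⟨fun x y hxy => (h e x).symm.trans ((congrArg _ hxy).trans (h e y)), fun y => ⟨_, h e.symm y⟩⟩

section Duality

variable {n r : ℕ} (ι : X ⟶ CohB1.ProjSpace n k) [IsClosedImmersion ι]
  [SmoothOfRelativeDimension r (X ↘ Spec (CommRingCat.of k))]

omit [IsProper (X ↘ Spec (CommRingCat.of k))] in
/-- Serre duality for invertible modules on a smooth projective scheme over any field. -/
theorem nonempty_dual [Nonempty X] (hι : ι ≫ CohB1.ProjSpace.toSpec n k = X ↘ Spec (CommRingCat.of k))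
    (W : X.Modules) (hW : ExtPow.IsExtPow r (Omega.sheaf (X ↘ Spec (CommRingCat.of k))) W)
    {L M : X.Modules} (hL : PicF.IsInvertible L)
    (e : CohB1.tensorMod L M ≅ Coh.structureModule X) (p : ℕ) (hp : p ≤ r) :
    Nonempty (Module.Dual k (Coh.HH X L p) ≃ₗ[k] Coh.HH X (CohB1.tensorMod M W) (r - p)) := by
  have : HasExt.{u} X.Modules := Groth.Agent.ModShf.schemeModulesHasExt _
  haveI := DualAbs.isLocallyNoetherian_source ι
  haveI : DCoh.HasSheafHom L := KFlat.hasSheafHom_scheme L
  have hr : r ≤ n := DualAbs.SmoothDual.le_dim_of_nonempty k ι (r := r)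
  obtain ⟨t, ht⟩ := DualAbs.SmoothDual.exists_isDualizing k ι hι hr W hW
  have hF : FlatMod.IsFinLocFree L := ProjForm.isFinLocFree_of_isInvertible hL
  obtain ⟨e₁⟩ := (S15517.result k n r X ι hι (DualAbs.SmoothDual.topologicalKrullDim_eq k)
    (fun x hx => DualAbs.SmoothDual.cm_closed k x hx) W (DualAbs.SmoothDual.isCoh_top k ι hι W hW)
    t ht L (VBLib.isCoh_of_isFinLocFree hF)).1 (r - p) (Nat.sub_le r p)
  obtain ⟨e₂⟩ := ExtHom.nonempty_ext_linearEquiv k hF W (r - p)
  obtain ⟨e₃⟩ := DualAbs.nonempty_sheafHom_invertible L M (ChgRings.commIso M L ≪≫ e) W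
  rw [Nat.sub_sub_self hp] at e₁
  exact ⟨e₁.symm ≪≫ₗ e₂ ≪≫ₗ hhEquiv k e₃ (r - p)⟩

theorem finrank_dual [Nonempty X] (hι : ι ≫ CohB1.ProjSpace.toSpec n k = X ↘ Spec (CommRingCat.of k))
    (W : X.Modules) (hW : ExtPow.IsExtPow r (Omega.sheaf (X ↘ Spec (CommRingCat.of k))) W)
    {L M : X.Modules} (hL : PicF.IsInvertible L)
    (e : CohB1.tensorMod L M ≅ Coh.structureModule X) (p : ℕ) (hp : p ≤ r) :
    Module.finrank k (Coh.HH X (CohB1.tensorMod M W) (r - p)) = Module.finrank k (Coh.HH X L p) := by
  haveI := EulerChar.isLocallyNoetherian k (X := X)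
  haveI := EulerChar.finite_HH k L (VBLib.isCoh_of_isFinLocFree (ProjForm.isFinLocFree_of_isInvertible hL)) p
  obtain ⟨e'⟩ := nonempty_dual k ι hι W hW hL e p hp
  rw [← e'.finrank_eq, Subspace.dual_finrank_eq]

omit [IsClosedImmersion ι] in
theorem euler_eq_three (hd : topologicalKrullDim X ≤ (2 : ℕ)) (G : X.Modules) :
    Curv2.euler k X G = (Module.finrank k (Coh.HH X G 0) : ℤ) - Module.finrank k (Coh.HH X G 1) +
      Module.finrank k (Coh.HH X G 2) := by
  haveI := EulerChar.isNoetherian k (X := X)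
  rw [EulerChar.euler_eq_sum k (M := G) (t := 3) fun i hi =>
    CohTop.Vanishing.grothendieck_vanishing (X := X.toPresheafedSpace.carrier) 2 hd (Coh.toAb G) i
      (by omega)]
  simp [Finset.sum_range_succ]
  ring

end Duality

section Surface

variable {n : ℕ} (ι : X ⟶ CohB1.ProjSpace n k) [IsClosedImmersion ι]
  [SmoothOfRelativeDimension 2 (X ↘ Spec (CommRingCat.of k))] [Nonempty X]
  (hι : ι ≫ CohB1.ProjSpace.toSpec n k = X ↘ Spec (CommRingCat.of k))
  (W : X.Modules) (hW : ExtPow.IsExtPow 2 (Omega.sheaf (X ↘ Spec (CommRingCat.of k))) W)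

include hι hW

theorem isInvertible_canonical : PicF.IsInvertible W := by
  haveI := EulerChar.isLocallyNoetherian k (X := X)
  haveI : QuasiSeparated (X ↘ Spec (CommRingCat.of k)) := inferInstance
  exact CycLib.ChowOp.isInvertible_extPow (CanonTriv.isFinLocFreeOfRank_omega _ 2) hW

omit [IsProper (X ↘ Spec (CommRingCat.of k))] in
theorem dim_le : topologicalKrullDim X ≤ (2 : ℕ) := (DualAbs.SmoothDual.topologicalKrullDim_eq k).le

theorem euler_dual {L M : X.Modules} (hL : PicF.IsInvertible L)
    (e : CohB1.tensorMod L M ≅ Coh.structureModule X) :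
    Curv2.euler k X (CohB1.tensorMod M W) = Curv2.euler k X L := by
  rw [euler_eq_three k (dim_le k ι hι W hW), euler_eq_three k (dim_le k ι hι W hW),
    ← finrank_dual k ι hι W hW hL e 0 (by omega), ← finrank_dual k ι hι W hW hL e 1 (by omega),
    ← finrank_dual k ι hι W hW hL e 2 (by omega)]
  ring

/-- Riemann–Roch on a smooth projective surface. -/
theorem riemann_roch {L : X.Modules} (hL : PicF.IsInvertible L) :
    2 * Curv2.euler k X L = pr k L L - pr k L W + 2 * Curv2.euler k X (Coh.structureModule X) := by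
  have hd := dim_le k ι hι W hW
  have hWi := isInvertible_canonical k ι hι W hW
  obtain ⟨M, hM, ⟨e⟩⟩ := PicLaw.exists_inverse hL
  obtain ⟨O', hO', ⟨e'⟩⟩ := PicLaw.exists_inverse (L := Coh.structureModule X)
    (GenAt.isInvertible_structureModule X)
  have hW0 : Curv2.euler k X W = Curv2.euler k X (Coh.structureModule X) := by
    rw [← euler_dual k ι hι W hW (GenAt.isInvertible_structureModule X) (ProjTwist.oneTens _)]
    exact EulerChar.euler_iso k (ProjTwist.oneTens W).symm
  have h1 : pr k (CohB1.tensorMod M W) L = 2 * Curv2.euler k X (Coh.structureModule X) -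
      2 * Curv2.euler k X L := by
    rw [pr_eq, euler_dual k ι hι W hW hL e,
      EulerChar.euler_iso k ((tensAssoc L M W).symm ≪≫ tensCongr e (Iso.refl W) ≪≫ ProjTwist.oneTens W), hW0]
    ring
  have h2 := pr_mul k hd hM hWi hL
  rw [h1, pr_inv k hd hL hM hL e, pr_comm k W L] at h2
  linarith

end Surface

end Groth.Agent.SurfRR
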