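import Groth.Agent.SurfRR.Basic
import Groth.Agent.S6472
import Groth.Agent.FFCurve.Smooth
import Groth.Agent.EulerChar.Cartier
import Groth.Agent.EulerChar.Push
import Groth.Agent.HilbLoc.Normal
import Groth.Agent.IdealSh.CodimOne
import Groth.Agent.IdealSh.IdealMod
import Groth.Agent.WeakAssSch.Unit
import Groth.Agent.RegLoc.UFD
import Groth.Agent.VarBC.Dim
import Groth.Agent.VBLib.RR
import Groth.Agent.VBLib.Deg

/-!
# Nonsingular projective surfaces: setup, adjunction
-/

set_option autoImplicit false
set_option linter.style.haveILetI false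

universe u

open CategoryTheory CategoryTheory.Limits AlgebraicGeometry

noncomputable section

namespace Groth.Agent.SurfRR

variable (k : Type u) [Field k] {X : Scheme.{u}} [X.Over (Spec (CommRingCat.of k))]

theorem isProper_of_closedImmersion {n : ℕ} (ι : X ⟶ CohB1.ProjSpace n k) [IsClosedImmersion ι]
    (hι : ι ≫ CohB1.ProjSpace.toSpec n k = (X ↘ (Spec (CommRingCat.of k)))) :
    IsProper (X ↘ (Spec (CommRingCat.of k))) := by
  haveI : IsProper (CohB1.ProjSpace.toSpec n k) := ProjProper.Basic.isProper_toSpec n k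
  exact hι ▸ inferInstance

theorem smoothRelDim_of_regular [IsAlgClosed k] [IsIntegral X] [LocallyOfFiniteType (X ↘ (Spec (CommRingCat.of k)))]
    {r : ℕ} (hdim : topologicalKrullDim X = r) (hreg : ∀ x : X, IsRegularLocalRing (X.presheaf.stalk x)) :
    SmoothOfRelativeDimension r (X ↘ (Spec (CommRingCat.of k))) := by
  haveI := FFCurve.smooth_of_regular (X ↘ (Spec (CommRingCat.of k))) hreg
  exact S6472.smoothOfRelativeDimension_of_dim r hdim

variable [IsProper (X ↘ Spec (CommRingCat.of k))]

omit [IsProper (X ↘ Spec (CommRingCat.of k))] in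
/-- An integral curve on a regular surface is an effective Cartier divisor. -/
theorem isInvertible_curve [IsIntegral X] [LocallyOfFiniteType (X ↘ (Spec (CommRingCat.of k)))]
    (hdim : topologicalKrullDim X = (2 : ℕ))
    (hreg : ∀ x : X, IsRegularLocalRing (X.presheaf.stalk x))
    {C : Scheme.{u}} (i : C ⟶ X) [IsClosedImmersion i] [IsIntegral C]
    (hC : topologicalKrullDim C = (1 : ℕ)) : PicF.IsInvertible (ClSub.idealMod i.ker) := by
  haveI : IsLocallyNoetherian X := LocallyOfFiniteType.isLocallyNoetherian (X ↘ Spec (CommRingCat.of k))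
  haveI : IsIso i.toImage := inferInstance
  haveI : IsIntegral i.ker.subscheme := IsIntegral.of_isIso i.toImage
  haveI : IsLocallyNoetherian i.ker.subscheme := LocallyOfFiniteType.isLocallyNoetherian i.ker.subschemeι
  refine IdealSh.IdealMod.isInvertible_of_isEffCartierIdeal i.ker
    (IdealSh.CodimOne.isEffCartierIdeal i.ker (fun z hz => ?_) (fun z hz => ?_)
      (fun x _ => ⟨haveI := hreg x; RegLoc.isDomain _, haveI := hreg x; RegLoc.UFD.uniqueFactorizationMonoid _⟩))
  · exact (WeakAssSch.isWeakAssPoint_unit_iff_maximal z).mp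
      ((WeakAssSch.isWeakAssPoint_unit_iff_isAssociatedPrime z).mpr hz)
  · obtain rfl : z = genericPoint i.ker.subscheme := (hz _ (genericPoint_specializes z)).symm
    set x := i.ker.subschemeι (genericPoint i.ker.subscheme)
    have hcl : closure ({x} : Set X) = Set.range i.ker.subschemeι := by
      rw [← Set.image_singleton (f := i.ker.subschemeι), i.ker.subschemeι.isClosedEmbedding.closure_image_eq,
        genericPoint_closure, Set.image_univ]
    have hx1 : VarDim.dimPt k X x = 1 := by
      have h := VarBC.Dim.topDim_closure k x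
      rw [hcl, ← i.ker.subschemeι.isClosedEmbedding.isEmbedding.toHomeomorph.isHomeomorph.topologicalKrullDim_eq,
        ← i.toImage.homeomorph.isHomeomorph.topologicalKrullDim_eq, hC] at h
      exact_mod_cast h.symm
    have hgen : VarDim.dimPt k X (genericPoint X) = 2 := by
      have h := VarDim.topologicalKrullDim_eq_of_irreducible k (X := X)
      rw [hdim] at h
      exact_mod_cast h.symm
    have hle : ∀ y : X, VarDim.dimPt k X y ≤ 2 := fun y =>
      hgen ▸ (VarDim.exists_ltSeries_of_le k (genericPoint_specializes y : y ≤ genericPoint X)).1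
    rw [ringKrullDim_stalk_eq_coheight]
    have hco : Order.coheight x = (1 : ℕ) := by
      refine le_antisymm ?_ ?_
      · refine (VarDim.coheight_le_of_forall k fun y _ => hle y).trans ?_
        simp [hx1]
      · refine le_trans ?_ (VarDim.le_coheight k (genericPoint_specializes x : x ≤ genericPoint X))
        simp [hx1, hgen]
    rw [hco]
    rfl

/-- `χ(O_X) = χ(I) + χ(O_C)`. -/
theorem euler_ker {C : Scheme.{u}} (i : C ⟶ X) [IsClosedImmersion i]
    [C.Over (Spec (CommRingCat.of k))]
    (w : i ≫ (X ↘ Spec (CommRingCat.of k)) = C ↘ Spec (CommRingCat.of k))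
    (hI : PicF.IsInvertible (ClSub.idealMod i.ker)) :
    Curv2.euler k X (Coh.structureModule X) =
      Curv2.euler k X (ClSub.idealMod i.ker) + Curv2.euler k C (Coh.structureModule C) := by
  have hO : Coh.IsQCoh (Coh.structureModule C) := (inferInstance : (Coh.structureModule C).IsQuasicoherent)
  have h1 : Curv2.euler k X (ClSub.quotMod i.ker) = Curv2.euler k C (Coh.structureModule C) :=
    (EulerChar.euler_iso k (HilbLoc.quotModIso i)).trans (EulerChar.euler_push i w (Coh.structureModule C) hO)
  have h2 := EulerChar.euler_add' k (ClSub.idealModι i.ker) (ClSub.toSubscheme i.ker) (kernel.condition _)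
    (EulerChar.shortExact_ideal i.ker)
    (VBLib.isCoh_of_isFinLocFree (ProjForm.isFinLocFree_of_isInvertible hI)) (isCoh_structure k)
    (EulerChar.isCoh_quotMod k _)
  exact h2.trans (congrArg (_ + ·) h1)

/-- Adjunction: `(I·I) - (I·W) = -2 χ(O_C)`. -/
theorem adjunction {n : ℕ} (ι : X ⟶ CohB1.ProjSpace n k) [IsClosedImmersion ι]
    [SmoothOfRelativeDimension 2 (X ↘ Spec (CommRingCat.of k))] [Nonempty X]
    (hι : ι ≫ CohB1.ProjSpace.toSpec n k = X ↘ Spec (CommRingCat.of k))
    (W : X.Modules) (hW : ExtPow.IsExtPow 2 (Omega.sheaf (X ↘ Spec (CommRingCat.of k))) W)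
    {C : Scheme.{u}} (i : C ⟶ X) [IsClosedImmersion i] [C.Over (Spec (CommRingCat.of k))]
    (w : i ≫ (X ↘ Spec (CommRingCat.of k)) = C ↘ Spec (CommRingCat.of k))
    (hI : PicF.IsInvertible (ClSub.idealMod i.ker)) :
    pr k (ClSub.idealMod i.ker) (ClSub.idealMod i.ker) - pr k (ClSub.idealMod i.ker) W =
      -2 * Curv2.euler k C (Coh.structureModule C) := by
  have h1 := riemann_roch k ι hι W hW hI
  have h2 := euler_ker k i w hI
  linarith

end Groth.Agent.SurfRR
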