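import Groth.Agent.SurfRR.Surface
import Groth.Agent.NefPos.Main

/-!
# Effective divisors meet ample divisors non-negatively
-/

set_option autoImplicit false
set_option linter.style.haveILetI false

universe u

open CategoryTheory CategoryTheory.Limits AlgebraicGeometry

noncomputable section

namespace Groth.Agent.SurfRR

open NefPos Snapper IntProd70 ProjTwist

variable (k : Type u) [Field k] {X : Scheme.{u}} [X.Over (Spec (CommRingCat.of k))]
  [IsProper (X ↘ Spec (CommRingCat.of k))] [IsIntegral X]

omit [IsIntegral X] in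
theorem nonneg_ample_of_dim_le_one {H G : X.Modules} (hH : CohB1.IsAmple H) (hG : Coh.IsCoh G)
    (hd : topologicalKrullDim ↥(CohB1.support G) ≤ ((1 : ℕ) : WithBot ℕ∞)) : 0 ≤ iC k [H] G := by
  have hl : ∀ B ∈ [H], PicF.IsInvertible B := fun B hB => by rw [List.mem_singleton.1 hB]; exact hH.1
  refine iC_nonneg_of_pieces k hl hG rfl hd fun ξ hξ => ?_
  obtain ⟨hdim, hint, heq⟩ := piece_eq k ξ hξ hl rfl
  let D := IntMult.ptIdeal ξ
  letI : D.subscheme.Over (Spec (CommRingCat.of k)) := ⟨D.subschemeι ≫ (X ↘ Spec (CommRingCat.of k))⟩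
  haveI : IsProper (D.subscheme ↘ Spec (CommRingCat.of k)) :=
    inferInstanceAs (IsProper (D.subschemeι ≫ (X ↘ Spec (CommRingCat.of k))))
  haveI := hint
  have h := pos_ample k (Wt.AmpleThick.isAmple_pullback D.subschemeι hH)
    (Coh.structureModule D.subscheme) hdim (dim_support_structure hdim)
  rw [heq]
  have h' : (0 : ℤ) < iC k (word (Coh.structureModule D.subscheme) (Coh.structureModule D.subscheme)
      ((Scheme.Modules.pullback D.subschemeι).obj H) 0 0 1) (Coh.structureModule D.subscheme) :=
    Int.cast_pos.1 h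
  simpa [word] using h'.le

/-- An invertible module with a nonzero section meets an ample one non-negatively. -/
theorem nonneg_of_section (hd : topologicalKrullDim X = ((2 : ℕ) : WithBot ℕ∞)) {N H : X.Modules}
    (hN : PicF.IsInvertible N) (hH : CohB1.IsAmple H) (s : Coh.structureModule X ⟶ N) (hs : s ≠ 0) :
    0 ≤ pr k N H := by
  haveI := EulerChar.isNoetherian k (X := X)
  have hO := LFFrame.isInvertible_structureModule X
  have hOc := isCoh_structure k (X := X)
  have hNO := AmpleLib.isInvertible_tensorMod hN hO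
  let s' : Coh.structureModule X ⟶ CohB1.tensorMod N (Coh.structureModule X) := s ≫ (tensOne N).inv
  have hs' : s' ≠ 0 := fun h => hs (by
    rw [← cancel_mono (tensOne N).inv, zero_comp]
    exact h)
  haveI : Mono s' := EulerChar.mono_of_ne_zero hO hNO s' hs'
  have hQ : Coh.IsCoh (cokernel s') :=
    CohDev.isCoh_cokernel s' hOc.1 (BigVol.isCoh_of_isInvertible hNO)
  have hl : ∀ B ∈ [H], PicF.IsInvertible B := fun B hB => by rw [List.mem_singleton.1 hB]; exact hH.1
  rw [pr, iC_cons_mono k hl hN hOc s' hQ]
  refine nonneg_ample_of_dim_le_one k hH hQ (Snapper.le_of_lt_succ ?_)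
  refine CohDev.dim_lt_of_irreducible (CohDev.isClosed_support hQ) (IrreducibleSpace.isIrreducible_univ X)
    (Set.subset_univ _) (fun h => ?_) ?_
  · exact CohDev.not_mem_support_cokernel s'
      (EulerChar.bijective_stalk_generic hO hNO s' hs').2 (h (Set.mem_univ (genericPoint X)))
  · rw [IsHomeomorph.topologicalKrullDim_eq _ (Homeomorph.Set.univ X).isHomeomorph, hd]

end Groth.Agent.SurfRR
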